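import Groth.Agent.H70.FibreCritMod.Main

/-!
# Critère de platitude par fibres, module version: the equivalence (helper70)
-/

set_option autoImplicit false
set_option linter.style.haveILetI false

open CategoryTheory Limits AlgebraicGeometry TopologicalSpace Opposite IsLocalRing TensorProduct

namespace Groth.Agent.H70.FibreCritMod

universe u

theorem flat_compHom_congr {R S M : Type*} [CommRing R] [CommRing S] [AddCommGroup M]
    [Module S M] (φ ψ : R →+* S) (h : φ = ψ) :
    @Module.Flat R M _ _ (Module.compHom M φ) ↔ @Module.Flat R M _ _ (Module.compHom M ψ) := by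
  subst h; rfl

/-- `(S/I) ⊗ M` and `M / I M` as `S/I`-modules -/
noncomputable def quotTensorEquiv {S : Type*} [CommRing S] (I : Ideal S) (M : Type*)
    [AddCommGroup M] [Module S M] :
    ((S ⧸ I) ⊗[S] M) ≃ₗ[S ⧸ I] (M ⧸ (I • ⊤ : Submodule S M)) :=
  (TensorProduct.quotTensorEquivQuotSMul M I).extendScalarsOfSurjective
    Ideal.Quotient.mk_surjective

variable {X Y S : Scheme.{u}} (f : X ⟶ Y) (g : Y ⟶ S)

theorem isFlatOverAt_comp_iff (F : X.Modules) (x : X) :
    letI : Module (Y.presheaf.stalk (f x)) (F.presheaf.stalk x) := FlatMod.moduleStalkOver f F x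
    letI : Module (S.presheaf.stalk (g (f x))) (F.presheaf.stalk x) :=
      Module.compHom _ (g.stalkMap (f x)).hom
    FlatMod.IsFlatOverAt (f ≫ g) F x ↔
      Module.Flat (S.presheaf.stalk (g (f x))) (F.presheaf.stalk x) := by
  have h := flat_compHom_congr (M := F.presheaf.stalk x) ((f ≫ g).stalkMap x).hom
    ((f.stalkMap x).hom.comp (g.stalkMap (f x)).hom) (by
      rw [Scheme.Hom.stalkMap_comp]; rfl)
  exact h

/-- **Critère de platitude par fibres** for a finitely presented quasi-coherent module, at a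
point where the stalk is nonzero. -/
theorem critere_par_fibres [LocallyOfFinitePresentation (f ≫ g)] [LocallyOfFiniteType g]
    (F : X.Modules) [F.IsQuasicoherent]
    [SheafOfModules.IsFinitePresentation (R := X.ringCatSheaf) F] (x : X)
    (hx : Nontrivial (F.presheaf.stalk x)) :
    letI := FlatMod.moduleStalkOver f F x
    (FlatMod.IsFlatOverAt (f ≫ g) F x ∧
      Module.Flat (Y.presheaf.stalk (f x) ⧸ Ideal.map (g.stalkMap (f x)).hom
          (IsLocalRing.maximalIdeal (S.presheaf.stalk (g (f x)))))
        ((F.presheaf.stalk x) ⧸ (Ideal.map (g.stalkMap (f x)).hom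
          (IsLocalRing.maximalIdeal (S.presheaf.stalk (g (f x)))) •
          (⊤ : Submodule (Y.presheaf.stalk (f x)) (F.presheaf.stalk x))))) ↔
    ((g.stalkMap (f x)).hom.Flat ∧ FlatMod.IsFlatOverAt f F x) := by
  letI : Algebra (S.presheaf.stalk (g (f x))) (Y.presheaf.stalk (f x)) :=
    (g.stalkMap (f x)).hom.toAlgebra
  letI : Module (Y.presheaf.stalk (f x)) (F.presheaf.stalk x) := FlatMod.moduleStalkOver f F x
  letI : Module (S.presheaf.stalk (g (f x))) (F.presheaf.stalk x) :=
    Module.compHom _ (g.stalkMap (f x)).hom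
  haveI : IsScalarTower (S.presheaf.stalk (g (f x))) (Y.presheaf.stalk (f x))
      (F.presheaf.stalk x) :=
    IsScalarTower.of_algebraMap_smul (fun r m => rfl)
  rw [isFlatOverAt_comp_iff f g F x]
  let e := quotTensorEquiv (Ideal.map (g.stalkMap (f x)).hom
    (IsLocalRing.maximalIdeal (S.presheaf.stalk (g (f x))))) (F.presheaf.stalk x)
  constructor
  · rintro ⟨h1, h2⟩
    have h2' : Module.Flat (Y.presheaf.stalk (f x) ⧸ Ideal.map (g.stalkMap (f x)).hom
          (IsLocalRing.maximalIdeal (S.presheaf.stalk (g (f x)))))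
        ((Y.presheaf.stalk (f x) ⧸ Ideal.map (g.stalkMap (f x)).hom
          (IsLocalRing.maximalIdeal (S.presheaf.stalk (g (f x)))))
          ⊗[Y.presheaf.stalk (f x)] F.presheaf.stalk x) :=
      Module.Flat.of_linearEquiv e
    exact flat_of_flat_fibre f g F x h1 h2'
  · rintro ⟨h1, h2⟩
    haveI : Module.Flat (S.presheaf.stalk (g (f x))) (Y.presheaf.stalk (f x)) := h1
    haveI : Module.Flat (Y.presheaf.stalk (f x)) (F.presheaf.stalk x) := h2
    refine ⟨Module.Flat.trans (S.presheaf.stalk (g (f x))) (Y.presheaf.stalk (f x))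
      (F.presheaf.stalk x), ?_⟩
    exact Module.Flat.of_linearEquiv e.symm

end Groth.Agent.H70.FibreCritMod
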