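import Groth.Agent.H1.FibreCritMain
import Groth.Agent.H8.QCohStalk
import Groth.Agent.H44.FPSections
import Groth.Prelude.Def_FlatMod2

/-!
# Critère de platitude par fibres, module version, at a point (helper70)

Glue on top of helper1's ring-level non-Noetherian fibre criterion.
-/

set_option autoImplicit false
set_option linter.style.haveILetI false

open CategoryTheory Limits AlgebraicGeometry TopologicalSpace Opposite IsLocalRing TensorProduct

namespace Groth.Agent.H70.FibreCritMod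

universe u

variable {X Y S : Scheme.{u}} (f : X ⟶ Y) (g : Y ⟶ S)

/-- the fibrewise criterion for a module at a point, in "tensor" form -/
theorem flat_of_flat_fibre [LocallyOfFinitePresentation (f ≫ g)] [LocallyOfFiniteType g]
    (F : X.Modules) [F.IsQuasicoherent]
    [SheafOfModules.IsFinitePresentation (R := X.ringCatSheaf) F] (x : X)
    [Nontrivial (F.presheaf.stalk x)] :
    letI : Algebra (S.presheaf.stalk (g (f x))) (Y.presheaf.stalk (f x)) :=
      (g.stalkMap (f x)).hom.toAlgebra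
    letI : Module (Y.presheaf.stalk (f x)) (F.presheaf.stalk x) := FlatMod.moduleStalkOver f F x
    letI : Module (S.presheaf.stalk (g (f x))) (F.presheaf.stalk x) :=
      Module.compHom _ (g.stalkMap (f x)).hom
    Module.Flat (S.presheaf.stalk (g (f x))) (F.presheaf.stalk x) →
    Module.Flat (Y.presheaf.stalk (f x) ⧸ (maximalIdeal (S.presheaf.stalk (g (f x)))).map
        (algebraMap (S.presheaf.stalk (g (f x))) (Y.presheaf.stalk (f x))))
      ((Y.presheaf.stalk (f x) ⧸ (maximalIdeal (S.presheaf.stalk (g (f x)))).map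
        (algebraMap (S.presheaf.stalk (g (f x))) (Y.presheaf.stalk (f x))))
          ⊗[Y.presheaf.stalk (f x)] F.presheaf.stalk x) →
    Module.Flat (S.presheaf.stalk (g (f x))) (Y.presheaf.stalk (f x)) ∧
      Module.Flat (Y.presheaf.stalk (f x)) (F.presheaf.stalk x) := by
  letI : Algebra (S.presheaf.stalk (g (f x))) (Y.presheaf.stalk (f x)) :=
    (g.stalkMap (f x)).hom.toAlgebra
  letI : Module (Y.presheaf.stalk (f x)) (F.presheaf.stalk x) := FlatMod.moduleStalkOver f F x
  letI : Module (S.presheaf.stalk (g (f x))) (F.presheaf.stalk x) :=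
    Module.compHom _ (g.stalkMap (f x)).hom
  intro hRM hfib
  -- affine charts
  obtain ⟨W, hW, hsW, -⟩ := TopologicalSpace.Opens.isBasis_iff_nbhd.mp S.isBasis_affineOpens
    (TopologicalSpace.Opens.mem_top (g (f x)))
  obtain ⟨V, hV, hyV, hVW⟩ := TopologicalSpace.Opens.isBasis_iff_nbhd.mp Y.isBasis_affineOpens
    (show f x ∈ g ⁻¹ᵁ W from hsW)
  obtain ⟨U, hU, hxU, hUV⟩ := TopologicalSpace.Opens.isBasis_iff_nbhd.mp X.isBasis_affineOpens
    (show x ∈ f ⁻¹ᵁ V from hyV)
  -- the global rings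
  let _ : Algebra Γ(S, W) Γ(Y, V) := (g.appLE W V hVW).hom.toAlgebra
  let _ : Algebra Γ(Y, V) Γ(X, U) := (f.appLE V U hUV).hom.toAlgebra
  let _ : Algebra Γ(S, W) Γ(X, U) :=
    ((f.appLE V U hUV).hom.comp (g.appLE W V hVW).hom).toAlgebra
  have tABC : IsScalarTower Γ(S, W) Γ(Y, V) Γ(X, U) := IsScalarTower.of_algebraMap_eq fun _ => rfl
  have hft : Algebra.FiniteType Γ(S, W) Γ(Y, V) :=
    LocallyOfFiniteType.finiteType_appLE g hW hV hVW
  have hfp : Algebra.FinitePresentation Γ(S, W) Γ(X, U) := by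
    have h2 := LocallyOfFinitePresentation.finitePresentation_appLE (f ≫ g) hW hU
      (hUV.trans ((TopologicalSpace.Opens.map f.base).map (homOfLE hVW)).le)
    rw [← Scheme.Hom.appLE_comp_appLE f g W V U hVW hUV] at h2
    exact h2
  -- the local rings
  let _ : Algebra (Y.presheaf.stalk (f x)) (X.presheaf.stalk x) := (f.stalkMap x).hom.toAlgebra
  have hloc1 : IsLocalHom (algebraMap (Y.presheaf.stalk (f x)) (X.presheaf.stalk x)) :=
    inferInstanceAs (IsLocalHom (f.stalkMap x).hom)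
  let _ := S.presheaf.algebra_section_stalk ⟨g (f x), hsW⟩
  let _ := Y.presheaf.algebra_section_stalk ⟨f x, hyV⟩
  let _ := X.presheaf.algebra_section_stalk ⟨x, hxU⟩
  have locR := hW.isLocalization_stalk ⟨g (f x), hsW⟩
  have locS := hV.isLocalization_stalk ⟨f x, hyV⟩
  have locS' := hU.isLocalization_stalk ⟨x, hxU⟩
  -- the primes
  have h𝔭 : (hV.primeIdealOf ⟨f x, hyV⟩).asIdeal =
      (hU.primeIdealOf ⟨x, hxU⟩).asIdeal.comap (algebraMap Γ(Y, V) Γ(X, U)) :=
    congr($(IsAffineOpen.comap_primeIdealOf_appLE V hV U hU hUV hxU).1).symm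
  have h𝔯 : (hW.primeIdealOf ⟨g (f x), hsW⟩).asIdeal =
      (hV.primeIdealOf ⟨f x, hyV⟩).asIdeal.comap (algebraMap Γ(S, W) Γ(Y, V)) :=
    congr($(IsAffineOpen.comap_primeIdealOf_appLE W hW V hV hVW hyV).1).symm
  -- compatibilities
  have hRS : ∀ a : Γ(S, W), algebraMap (S.presheaf.stalk (g (f x))) (Y.presheaf.stalk (f x))
      (algebraMap Γ(S, W) (S.presheaf.stalk (g (f x))) a) =
      algebraMap Γ(Y, V) (Y.presheaf.stalk (f x)) (algebraMap Γ(S, W) Γ(Y, V) a) := by
    intro a
    simp only [RingHom.algebraMap_toAlgebra, Scheme.Hom.germ_stalkMap_apply, Scheme.Hom.appLE,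
      homOfLE_leOfHom, CommRingCat.hom_comp, RingHom.coe_comp, Function.comp_apply,
      Y.presheaf.germ_res_apply]
  have hSS' : ∀ b : Γ(Y, V), algebraMap (Y.presheaf.stalk (f x)) (X.presheaf.stalk x)
      (algebraMap Γ(Y, V) (Y.presheaf.stalk (f x)) b) =
      algebraMap Γ(X, U) (X.presheaf.stalk x) (algebraMap Γ(Y, V) Γ(X, U) b) := by
    intro b
    simp only [RingHom.algebraMap_toAlgebra, Scheme.Hom.germ_stalkMap_apply, Scheme.Hom.appLE,
      homOfLE_leOfHom, CommRingCat.hom_comp, RingHom.coe_comp, Function.comp_apply,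
      X.presheaf.germ_res_apply]
  -- the module
  haveI : Module.FinitePresentation Γ(X, U) Γ(F, U) :=
    Groth.Agent.H44.finitePresentation_sections_of_isFinitePresentation F hU
  letI : Module Γ(X, U) (F.presheaf.stalk x) := Groth.Agent.H8.stalkModule F hxU
  haveI : IsScalarTower Γ(X, U) (X.presheaf.stalk x) (F.presheaf.stalk x) :=
    IsScalarTower.of_algebraMap_smul (fun r m => rfl)
  haveI : IsScalarTower (Y.presheaf.stalk (f x)) (X.presheaf.stalk x) (F.presheaf.stalk x) :=
    IsScalarTower.of_algebraMap_smul (fun r m => rfl)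
  haveI : IsScalarTower (S.presheaf.stalk (g (f x))) (Y.presheaf.stalk (f x))
      (F.presheaf.stalk x) :=
    IsScalarTower.of_algebraMap_smul (fun r m => rfl)
  haveI := Groth.Agent.H8.isLocalizedModule_germₗ F hU hxU
  have hS := Groth.Agent.H1.FibreCrit.flat_of_flat_fibre_of_isLocalization
    (A := Γ(S, W)) (B := Γ(Y, V)) (C := Γ(X, U))
    (N := Γ(F, U)) (hU.primeIdealOf ⟨x, hxU⟩).asIdeal (hV.primeIdealOf ⟨f x, hyV⟩).asIdeal h𝔭
    (hW.primeIdealOf ⟨g (f x), hsW⟩).asIdeal h𝔯 (R := S.presheaf.stalk (g (f x)))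
    (S := Y.presheaf.stalk (f x)) (S' := X.presheaf.stalk x) (M := F.presheaf.stalk x) hRS hSS'
    (Groth.Agent.H8.germₗ F hxU) hfib
  have hR := Groth.Agent.H1.FibreCrit.flat_base_of_flat_fibre_of_isLocalization
    (A := Γ(S, W)) (B := Γ(Y, V)) (C := Γ(X, U))
    (N := Γ(F, U)) (hU.primeIdealOf ⟨x, hxU⟩).asIdeal (hV.primeIdealOf ⟨f x, hyV⟩).asIdeal h𝔭
    (hW.primeIdealOf ⟨g (f x), hsW⟩).asIdeal h𝔯 (R := S.presheaf.stalk (g (f x)))
    (S := Y.presheaf.stalk (f x)) (S' := X.presheaf.stalk x) (M := F.presheaf.stalk x) hRS hSS'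
    (Groth.Agent.H8.germₗ F hxU) hfib
  exact ⟨hR, hS⟩

end Groth.Agent.H70.FibreCritMod
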